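import Cfsg.Agent.CharDeep.Fixed.OddIndex

/-!
# The fixed character over a fixed character of a normal subgroup of odd index
-/

namespace Cfsg.Agent.CharDeep.Fixed

universe u

theorem Hyp.exists_unique_over {G : Type u} [Group G] [Fintype G] {σ : ℂ →+* ℂ} {n k e : ℕ}
    (h : Hyp G σ n k e) (N : Subgroup G) [hN : N.Normal] [Fintype N] (hodd : Odd N.index)
    (θ : Cfsg.IrrCharacter N) (hf : Fix σ (θ : N → ℂ)) :
    ∃ χ : Cfsg.IrrCharacter G, (Cfsg.classInner (fun x : N => (χ : G → ℂ) x) (θ : N → ℂ) ≠ 0 ∧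
      Fix σ (χ : G → ℂ) ∧ (Ext.Inv N (θ : N → ℂ) → ∀ x : N, (χ : G → ℂ) x = (θ : N → ℂ) x)) ∧
      ∀ χ' : Cfsg.IrrCharacter G, Cfsg.classInner (fun x : N => (χ' : G → ℂ) x) (θ : N → ℂ) ≠ 0 →
        Fix σ (χ' : G → ℂ) → χ' = χ := by
  classical
  by_cases hinv : Ext.Inv N (θ : N → ℂ)
  · obtain ⟨χ, hχ, hres, hfix⟩ := h.exists_fix_ext_of_inv N hodd θ.2 hf hinv
    have hfun : (fun x : N => χ x) = (θ : N → ℂ) := funext hres
    refine ⟨⟨χ, hχ⟩, ⟨?_, hfix, fun _ => hres⟩, fun χ' hne hfix' => Subtype.ext ?_⟩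
    · show Cfsg.classInner (fun x : N => χ x) (θ : N → ℂ) ≠ 0
      rw [hfun, CharCore.classInner_irr_self]
      exact one_ne_zero
    · exact h.eq_of_over N hodd hχ (hfun ▸ θ.2) χ'.2 (hfun ▸ hne) hfix hfix'
  -- the inertia group
  let T : Subgroup G :=
    { carrier := {g | CharClifford.conjFun N g (θ : N → ℂ) = θ}
      one_mem' := CharClifford.conjFun_one N _
      mul_mem' := fun {a b} ha hb => by
        show CharClifford.conjFun N (a * b) (θ : N → ℂ) = θ
        rw [← CharClifford.conjFun_conjFun, show CharClifford.conjFun N a (θ : N → ℂ) = θ from ha]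
        exact hb
      inv_mem' := fun {a} ha => by
        show CharClifford.conjFun N a⁻¹ (θ : N → ℂ) = θ
        conv_lhs => rw [← show CharClifford.conjFun N a (θ : N → ℂ) = θ from ha]
        rw [CharClifford.conjFun_conjFun, mul_inv_cancel, CharClifford.conjFun_one] }
  have hT : ∀ g : G, g ∈ T ↔ ∀ x : N,
      (θ : N → ℂ) ⟨g * x * g⁻¹, hN.conj_mem (x : G) x.2 g⟩ = (θ : N → ℂ) x :=
    fun g => ⟨fun hg x => congrFun hg x, fun hg => funext hg⟩
  have hNT : N ≤ T := fun g hg => CharClifford.conjFun_of_mem N (CharCore.irr_isClassFunction θ) hg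
  set N' := N.subgroupOf T with hN'
  haveI : N'.Normal := Subgroup.normal_subgroupOf
  let eq := Subgroup.subgroupOfEquivOfLe hNT
  have hodd' : Odd N'.index := Odd.of_dvd_nat hodd (Dvd.intro _ (Subgroup.relIndex_mul_index hNT))
  have hθ' : Cfsg.IsIrrCharacter N' (fun x => (θ : N → ℂ) (eq x)) :=
    CharCore.isIrrCharacter_comp_surjective θ.2 eq.toMonoidHom eq.surjective
  let θ' : Cfsg.IrrCharacter N' := ⟨_, hθ'⟩
  have hswap : ∀ f : G → ℂ, Cfsg.classInner (fun x : N' => f ((x : T) : G)) (θ' : N' → ℂ) =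
      Cfsg.classInner (fun x : N => f x) (θ : N → ℂ) := fun f => by
    unfold Cfsg.classInner
    rw [Nat.card_congr eq.toEquiv]
    congr 1
    exact Fintype.sum_equiv eq.toEquiv _ _ fun x => rfl
  obtain ⟨ψ, hψ, hψres, hψfix⟩ := (h.subgroup T).exists_fix_ext_of_inv N' hodd' hθ'
    (fun x => hf _) (fun g x => (hT g).mp g.2 (eq x))
  let ψ₀ : Cfsg.IrrCharacter T := ⟨ψ, hψ⟩
  have hψN : Cfsg.classInner (fun x : N' => ψ x) (θ' : N' → ℂ) = 1 := by
    rw [show (fun x : N' => ψ x) = (θ' : N' → ℂ) from funext hψres, CharCore.classInner_irr_self]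
  obtain ⟨χ, hχT, hχind⟩ := Deg.exists_over_subgroup T ψ₀
  have hover : Cfsg.classInner (fun x : N => (χ : G → ℂ) x) (θ : N → ℂ) ≠ 0 := by
    refine Deg.inner_ne_zero_trans N T hNT (CharCore.irr_isCharacter χ) ψ₀ θ hχT ?_
    have h1 : Cfsg.classInner (fun x : N => ψ ⟨(x : G), hNT x.2⟩) (θ : N → ℂ) = 1 := by
      rw [← hψN]
      symm
      unfold Cfsg.classInner
      rw [Nat.card_congr eq.toEquiv]
      congr 1
      exact Fintype.sum_equiv eq.toEquiv _ _ fun x => rfl
    show Cfsg.classInner (fun x : N => ψ ⟨(x : G), hNT x.2⟩) (θ : N → ℂ) ≠ 0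
    rw [h1]
    exact one_ne_zero
  have hIc := CharInd.isCharacter_indFun T (CharCore.IsIrrCharacter.isCharacter hψ)
  have hdθ : ψ 1 = ((Cfsg.charDegree (θ : N → ℂ) : ℕ) : ℂ) := by
    rw [← Deg.apply_one θ]
    exact (hψres 1).trans (congrArg (θ : N → ℂ) (map_one eq))
  have hind : Cfsg.indFun T ψ = (χ : G → ℂ) := by
    obtain ⟨ψ₂, hψ₂, hψ₂ind, hmult⟩ := Ext.exists_inertia_induced N θ.2 T hT hNT χ.2 hover
    refine (Deg.eq_or_degree_lt hIc χ hχind (Deg.apply_one χ)
      (b := T.index * Cfsg.charDegree (θ : N → ℂ)) ?_).resolve_right ?_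
    · rw [CharInd.indFun_apply_one, hdθ, Nat.cast_mul]
    · obtain ⟨d₂, -, hd₂⟩ := CharCore.IsIrrCharacter.exists_degree hψ₂
      have hle : Cfsg.charDegree (θ : N → ℂ) ≤ d₂ := by
        refine Deg.degree_le_of_constituent (f := fun x : N => ψ₂ ⟨(x : G), hNT x.2⟩)
          (CharCore.isCharacter_comp (CharCore.IsIrrCharacter.isCharacter hψ₂)
            (Subgroup.inclusion hNT)) (d := d₂) ?_ θ (by rw [hmult]; exact hover)
        exact hd₂
      have h1 : (χ : G → ℂ) 1 = ((T.index * d₂ : ℕ) : ℂ) := by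
        rw [← hψ₂ind, CharInd.indFun_apply_one, hd₂, Nat.cast_mul]
      rw [Deg.degree_of_eq h1, not_lt]
      exact Nat.mul_le_mul_left _ hle
  have hfixind : ∀ (φ : T → ℂ) (g : G),
      σ (Cfsg.indFun T φ g) = Cfsg.indFun T (fun t => σ (φ t)) g := fun φ g => by
    rw [CharInd.indFun_apply, CharInd.indFun_apply, map_mul, map_inv₀, map_natCast, map_sum]
    refine congrArg _ (Finset.sum_congr rfl fun x _ => ?_)
    by_cases hx : x⁻¹ * g * x ∈ T
    · rw [CharInd.extendByZero_mem _ hx, CharInd.extendByZero_mem _ hx]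
    · rw [CharInd.extendByZero_notMem _ hx, CharInd.extendByZero_notMem _ hx, map_zero]
  refine ⟨χ, ⟨hover, fun g => ?_, fun hi => absurd hi hinv⟩, fun χ' hne hfix' => ?_⟩
  · rw [← hind, hfixind]
    exact congrFun (congrArg (Cfsg.indFun T) (funext hψfix)) g
  obtain ⟨ψ', hψ', hind', hmult'⟩ := Ext.exists_inertia_induced N θ.2 T hT hNT χ'.2 hne
  let a : Cfsg.IrrCharacter T := ⟨ψ', hψ'⟩
  let b : Cfsg.IrrCharacter T := ⟨fun t => σ (ψ' t), OddChar.isIrrCharacter_map σ hψ'⟩
  have hrN : Cfsg.classInner (fun x : N' => ψ' x) (θ' : N' → ℂ) =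
      Cfsg.classInner (fun x : N => (χ' : G → ℂ) x) (θ : N → ℂ) := by
    rw [← hmult']
    unfold Cfsg.classInner
    rw [Nat.card_congr eq.toEquiv]
    congr 1
    exact Fintype.sum_equiv eq.toEquiv _ _ fun x => rfl
  have hres' := CharCore.isCharacter_restrict (CharCore.irr_isCharacter χ') T
  obtain ⟨m, hm⟩ := CharCore.IsCharacter.exists_sum hres'
  choose c hc using fun φ : Cfsg.IrrCharacter T =>
    CharCore.IsCharacter.exists_classInner_irr_eq_natCast
      (CharCore.isCharacter_restrict (CharCore.irr_isCharacter φ) N') θ'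
  have htot : ((∑ φ, m φ * c φ : ℕ) : ℂ) = (c a : ℂ) := by
    rw [← hc a, show Cfsg.classInner (fun x : N' => (a : T → ℂ) x) (θ' : N' → ℂ) = _ from hrN,
      ← hswap]
    have hdec : (fun x : N' => (χ' : G → ℂ) ((x : T) : G)) =
        ∑ φ : Cfsg.IrrCharacter T, (m φ : ℂ) • fun x : N' => (φ : T → ℂ) x := funext fun x => by
      have h1 := congrFun hm (x : T)
      simp only [Finset.sum_apply, Pi.smul_apply] at h1 ⊢
      exact h1
    rw [hdec, CharCore.classInner_sum_left]
    push_cast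
    exact Finset.sum_congr rfl fun φ _ => by rw [CharCore.classInner_smul_left, hc]
  have hmem : ∀ φ : Cfsg.IrrCharacter T, Cfsg.indFun T (φ : T → ℂ) = (χ' : G → ℂ) → m φ = 1 := by
    intro φ hφ
    have h1 := CharInd.classInner_indFun_right T (φ : T → ℂ) (CharCore.irr_isClassFunction χ')
    rw [hφ, CharCore.classInner_irr_self, hm, CharCore.classInner_sum_all] at h1
    exact_mod_cast h1.symm
  have hb : Cfsg.indFun T (b : T → ℂ) = (χ' : G → ℂ) := funext fun g => by
    rw [show Cfsg.indFun T (b : T → ℂ) g = σ (Cfsg.indFun T ψ' g) from (hfixind ψ' g).symm, hind',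
      hfix']
  have hca : c a ≠ 0 := fun h0 => hne (by
    rw [← hrN]
    exact (hc a).trans (by rw [h0, Nat.cast_zero]))
  have hcb : c b ≠ 0 := fun h0 => hca (by
    have h1 := OddChar.classInner_map σ (φ := fun x : N' => ψ' x)
      (CharCore.irr_isCharacter θ')
    rw [show (fun x : N' => σ ((θ' : N' → ℂ) x)) = (θ' : N' → ℂ) from funext fun x => hf _,
      show Cfsg.classInner (fun x : N' => σ (ψ' x)) (θ' : N' → ℂ) = _ from hc b, h0,
      show Cfsg.classInner (fun x : N' => ψ' x) (θ' : N' → ℂ) = _ from hc a, map_natCast] at h1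
    exact_mod_cast h1.symm)
  have hab : a = b := by
    by_contra hne'
    have h2 : m a * c a + m b * c b ≤ ∑ φ, m φ * c φ := by
      rw [← Finset.sum_pair (f := fun φ => m φ * c φ) hne']
      exact Finset.sum_le_sum_of_subset (Finset.subset_univ _)
    rw [Nat.cast_injective htot, hmem a hind', hmem b hb] at h2
    omega
  have hψ'fix : Fix σ ψ' := fun t => (congrFun (congrArg Subtype.val hab) t).symm
  have := (h.subgroup T).eq_of_over N' hodd' hψ (by
      rw [show (fun x : N' => ψ x) = (θ' : N' → ℂ) from funext hψres]; exact θ'.2) hψ' (by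
      rw [show (fun x : N' => ψ x) = (θ' : N' → ℂ) from funext hψres,
        show Cfsg.classInner (fun x : N' => ψ' x) (θ' : N' → ℂ) = _ from hc a]
      exact_mod_cast hca) hψfix hψ'fix
  exact Subtype.ext (by rw [← hind', this, hind])

end Cfsg.Agent.CharDeep.Fixed
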