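import Cfsg.Agent.CharDeep.Ext.Inertia
import Cfsg.Agent.CharDeep.Ext.Main
import Cfsg.Agent.CharDeep.Deg.Basic
import Cfsg.Agent.CharDeep.Deg.TwoDeg
import Cfsg.Agent.Lib.CharCore.ProjectiveChar
import Cfsg.Agent.CharB.CyclicExt
import Cfsg.Agent.OddChar.Twist
import Cfsg.Agent.Lib.CharClifford.Galois
import Mathlib.GroupTheory.Perm.Cycle.Type
import Mathlib.GroupTheory.Sylow

/-!
# Fixed characters of a Galois element of 2-power order over odd index
-/

namespace Cfsg.Agent.CharDeep.Fixed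

universe u

open scoped ComplexConjugate

/-- The values are fixed by `σ`. -/
def Fix {α : Type*} (σ : ℂ →+* ℂ) (f : α → ℂ) : Prop := ∀ x, σ (f x) = f x

/-- A real irreducible character of a group of odd order is principal. -/
theorem eq_one_of_real {Q : Type u} [Group Q] [Finite Q] (hodd : Odd (Nat.card Q))
    (β : Cfsg.IrrCharacter Q) (hreal : ∀ q, (β : Q → ℂ) q⁻¹ = (β : Q → ℂ) q) :
    (β : Q → ℂ) = fun _ => 1 := by
  classical
  have := Fintype.ofFinite Q
  by_contra hne
  let one : Cfsg.IrrCharacter Q := ⟨fun _ => 1, CharCore.isIrrCharacter_one⟩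
  have h0 := CharCore.classInner_irr_of_ne (χ := β) (ψ := one) fun h => hne (by rw [h])
  rw [Cfsg.classInner, mul_eq_zero, or_iff_right
    (inv_ne_zero (Nat.cast_ne_zero.mpr Nat.card_pos.ne'))] at h0
  simp only [one, map_one, mul_one] at h0
  have hinvol : ∀ q : Q, q⁻¹ = q → q = 1 := fun q h => by
    have h2 : q ^ 2 = 1 := by rw [sq]; nth_rewrite 1 [← h]; rw [inv_mul_cancel]
    refine orderOf_eq_one_iff.mp (Nat.eq_one_of_dvd_coprimes ?_ (orderOf_dvd_of_pow_eq_one h2)
      (orderOf_dvd_natCard q))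
    exact Nat.coprime_two_left.mpr hodd
  let e := Fintype.equivFin Q
  set S := (Finset.univ.erase (1 : Q)).filter fun q => e q < e q⁻¹ with hS
  have hsplit : ∑ q ∈ Finset.univ.erase (1 : Q), (β : Q → ℂ) q = 2 * ∑ q ∈ S, (β : Q → ℂ) q := by
    rw [two_mul, ← Finset.sum_filter_add_sum_filter_not (Finset.univ.erase (1 : Q))
      (fun q => e q < e q⁻¹)]
    congr 1
    refine Finset.sum_nbij' (fun q => q⁻¹) (fun q => q⁻¹) (fun q hq => ?_) (fun q hq => ?_)
      (fun q _ => inv_inv q) (fun q _ => inv_inv q) fun q _ => (hreal q).symm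
    · obtain ⟨h1, h2⟩ := Finset.mem_filter.mp hq
      refine Finset.mem_filter.mpr ⟨Finset.mem_erase.mpr
        ⟨fun h => Finset.ne_of_mem_erase h1 (inv_eq_one.mp h), Finset.mem_univ _⟩, ?_⟩
      rw [inv_inv]
      exact lt_of_le_of_ne (not_lt.mp h2) fun h =>
        Finset.ne_of_mem_erase h1 (hinvol q (e.injective h))
    · obtain ⟨h1, h2⟩ := Finset.mem_filter.mp hq
      refine Finset.mem_filter.mpr ⟨Finset.mem_erase.mpr
        ⟨fun h => Finset.ne_of_mem_erase h1 (inv_eq_one.mp h), Finset.mem_univ _⟩, ?_⟩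
      rw [inv_inv]
      exact not_lt.mpr h2.le
  rw [← Finset.add_sum_erase _ _ (Finset.mem_univ (1 : Q)), hsplit] at h0
  obtain ⟨d, -, hdvd, hd⟩ := CharClifford.exists_degree_dvd_card β.2
  have hint : IsIntegral ℤ (-∑ q ∈ S, (β : Q → ℂ) q) :=
    (IsIntegral.sum _ fun q _ => CharClifford.isIntegral_of_isIrrCharacter β.2 q).neg
  have h2 : 2 ∣ d := CharClifford.dvd_of_mul_isIntegral (a := 2) (b := d) hint (by
    rw [hd] at h0
    push_cast
    linear_combination h0)
  obtain ⟨j, hj⟩ := hodd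
  have := h2.trans hdvd
  omega

section
variable {G : Type u} [Group G] [Finite G] (σ : ℂ →+* ℂ) {n k e : ℕ}

/-- The hypotheses on the Galois element. -/
structure Hyp (G : Type u) [Group G] (σ : ℂ →+* ℂ) (n k e : ℕ) : Prop where
  ne : n ≠ 0
  dvd : ∀ g : G, g ^ n = 1
  apply_root : ∀ μ : ℂ, μ ^ n = 1 → σ μ = μ ^ k
  inv : ∀ g : G, Odd (orderOf g) → g ^ k = g⁻¹
  period : ∀ g : G, g ^ (k ^ (2 ^ e)) = g

variable {σ}

omit [Finite G] in
theorem Hyp.subgroup (h : Hyp G σ n k e) (H : Subgroup G) : Hyp H σ n k e where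
  ne := h.ne
  dvd g := Subtype.ext (by simpa using h.dvd g)
  apply_root := h.apply_root
  inv g hg := Subtype.ext (by
    simpa using h.inv g (by rwa [Subgroup.orderOf_coe]))
  period g := Subtype.ext (by simpa using h.period g)

theorem Hyp.map_apply (h : Hyp G σ n k e) {χ : G → ℂ} (hχ : Cfsg.IsCharacter G χ) (g : G) :
    σ (χ g) = χ (g ^ k) := by
  obtain ⟨m, ρ, rfl⟩ := hχ
  exact CharClifford.map_character ρ σ g h.ne (h.dvd g) h.apply_root

theorem Hyp.iterate (h : Hyp G σ n k e) {χ : G → ℂ} (hχ : Cfsg.IsCharacter G χ) (j : ℕ) (g : G) :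
    (σ^[j]) (χ g) = χ (g ^ (k ^ j)) := by
  induction j generalizing g with
  | zero => simp
  | succ j ih =>
    rw [Function.iterate_succ_apply, h.map_apply hχ, ih, ← pow_mul, ← pow_succ']

/-- Two fixed characters over `θ`, one restricting to it, agree. -/
theorem Hyp.eq_of_over (h : Hyp G σ n k e) [Fintype G] (N : Subgroup G) [N.Normal] [Fintype N]
    (hidx : Odd N.index) {χ ψ : G → ℂ} (hχ : Cfsg.IsIrrCharacter G χ)
    (hres : Cfsg.IsIrrCharacter N (fun x : N => χ x)) (hψ : Cfsg.IsIrrCharacter G ψ)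
    (hne : Cfsg.classInner (fun x : N => ψ x) (fun x : N => χ x) ≠ 0)
    (hfχ : Fix σ χ) (hfψ : Fix σ ψ) : ψ = χ := by
  classical
  obtain ⟨β, hβ, hinv, hprod, havg⟩ := Ext.exists_gallagher hχ hres hψ hne
  have hfix : Fix σ β := fun g => by
    rw [← havg, Ext.avg_apply, map_mul, map_inv₀, map_natCast, map_sum]
    refine congrArg _ (Finset.sum_congr rfl fun x _ => ?_)
    simp only [map_mul]
    rw [hfψ, ← CharCore.IsCharacter.apply_inv (CharCore.IsIrrCharacter.isCharacter hχ), hfχ]
  obtain ⟨γ, hγc, hγi, hγ⟩ := CharCore.IsCharacter.exists_quotient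
    (CharCore.IsIrrCharacter.isCharacter hβ) N fun x hx => by
      simpa using hinv ⟨x, hx⟩ 1
  have hone := eq_one_of_real (Q := G ⧸ N) (by rwa [← Subgroup.index_eq_card]) ⟨γ, hγi hβ⟩
    fun q => by
      obtain ⟨g, rfl⟩ := QuotientGroup.mk'_surjective N q
      show γ (QuotientGroup.mk' N g)⁻¹ = γ (QuotientGroup.mk' N g)
      -- replace `g` by an element of odd order in its coset
      set o := N.index with ho
      have hq : QuotientGroup.mk' N g ^ o = 1 := by
        rw [ho, Subgroup.index_eq_card]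
        exact pow_card_eq_one'
      set a := (orderOf g).factorization 2 with ha
      have hcop : Nat.Coprime (2 ^ a) o := Nat.Coprime.pow_left a (Nat.coprime_two_left.mpr hidx)
      obtain ⟨j, hj⟩ : ∃ j, 2 ^ a * j ≡ 1 [MOD o] := by
        obtain ⟨j, hj⟩ := Nat.exists_mul_mod_eq_of_coprime 1 hcop (Nat.pos_of_ne_zero
          Subgroup.index_ne_zero_of_finite).ne'
        exact ⟨j, by rw [Nat.ModEq]; exact hj.2⟩
      set h' := g ^ (2 ^ a * j) with hh'
      have hodd : Odd (orderOf h') := by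
        rw [hh', pow_mul]
        refine Odd.of_dvd_nat ?_ (orderOf_pow_dvd j)
        rw [orderOf_pow, Nat.gcd_eq_right (Nat.ordProj_dvd _ 2)]
        exact Nat.not_even_iff_odd.mp fun h2 => Nat.not_dvd_ordCompl Nat.prime_two
          (orderOf_pos g).ne' h2.two_dvd
      have himg : QuotientGroup.mk' N h' = QuotientGroup.mk' N g := by
        rw [hh', map_pow]
        conv_rhs => rw [← pow_one (QuotientGroup.mk' N g)]
        exact pow_eq_pow_iff_modEq.mpr (hj.of_dvd (orderOf_dvd_of_pow_eq_one hq))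
      rw [← himg, ← map_inv, ← hγ, ← hγ, ← h.inv h' hodd,
        ← h.map_apply (CharCore.IsIrrCharacter.isCharacter hβ) h', hfix]
  have hβ1 : β = 1 := funext fun g => by
    rw [hγ g]
    exact congrFun hone _
  rw [hprod, hβ1, one_mul]

/-- An extension may be chosen fixed. -/
theorem Hyp.exists_fix_ext (h : Hyp G σ n k e) [Fintype G] (N : Subgroup G) [N.Normal] [Fintype N]
    (hidx : Odd N.index) {θ : N → ℂ} (hθ : Cfsg.IsIrrCharacter N θ) (hfθ : Fix σ θ)
    (hex : ∃ χ : G → ℂ, Cfsg.IsIrrCharacter G χ ∧ ∀ x : N, χ x = θ x) :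
    ∃ χ : G → ℂ, Cfsg.IsIrrCharacter G χ ∧ (∀ x : N, χ x = θ x) ∧ Fix σ χ := by
  classical
  obtain ⟨χ₀, hχ₀, hres₀⟩ := hex
  have hresfun : (fun x : N => χ₀ x) = θ := funext hres₀
  have hresirr : Cfsg.IsIrrCharacter N (fun x : N => χ₀ x) := hresfun ▸ hθ
  let E := {χ : Cfsg.IrrCharacter G // ∀ x : N, (χ : G → ℂ) x = θ x}
  let f : E → E := fun χ => ⟨⟨fun g => σ ((χ.1 : G → ℂ) g), OddChar.isIrrCharacter_map σ χ.1.2⟩,
    fun x => by
      show σ ((χ.1 : G → ℂ) x) = θ x
      rw [χ.2, hfθ]⟩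
  have hf : Function.Injective f := fun a b hab => Subtype.ext (Subtype.ext (funext fun g =>
    σ.injective (congrFun (congrArg (fun c : E => (c.1 : G → ℂ)) hab) g)))
  let π : Equiv.Perm E := Equiv.ofBijective f (Finite.injective_iff_bijective.mp hf)
  have hiter : ∀ (j : ℕ) (χ : E) (g : G), ((π ^ j) χ).1.1 g = (σ^[j]) ((χ.1 : G → ℂ) g) := by
    intro j
    induction j with
    | zero => intro χ g; rfl
    | succ j ih =>
      intro χ g
      rw [pow_succ', Equiv.Perm.mul_apply, Function.iterate_succ_apply', ← ih χ g]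
      rfl
  have hπ : π ^ 2 ^ e = 1 := Equiv.ext fun χ => Subtype.ext (Subtype.ext (funext fun g => by
    rw [hiter, h.iterate (CharCore.irr_isCharacter χ.1), h.period]
    rfl))
  have hcard : ¬ 2 ∣ Fintype.card E := by
    rw [← Nat.card_eq_fintype_card]
    have he : E ≃ {l : Cfsg.IrrCharacter (G ⧸ N) // (l : G ⧸ N → ℂ) 1 = 1} := by
      refine (Equiv.ofBijective (fun l => (⟨⟨fun g => (l.1 : G ⧸ N → ℂ) (QuotientGroup.mk' N g) * χ₀ g,
        ?_⟩, fun x => ?_⟩ : E)) ⟨fun a b hab => ?_, fun χ => ?_⟩).symm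
      · exact Ext.isIrrCharacter_mul hχ₀ hresirr
          (CharCore.isIrrCharacter_comp_surjective l.1.2 _ (QuotientGroup.mk'_surjective N))
          (fun x g => congrArg (l.1 : G ⧸ N → ℂ) (by
            rw [map_mul, QuotientGroup.mk'_apply, (QuotientGroup.eq_one_iff (x : G)).mpr x.2,
              one_mul]))
      · show (l.1 : G ⧸ N → ℂ) (QuotientGroup.mk' N x) * χ₀ x = θ x
        rw [QuotientGroup.mk'_apply, (QuotientGroup.eq_one_iff (x : G)).mpr x.2, l.2, one_mul,
          hres₀]
      · refine Subtype.ext (Subtype.ext (funext fun q => ?_))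
        obtain ⟨g, rfl⟩ := QuotientGroup.mk'_surjective N q
        have hmul := congrArg (fun c : E => (c.1 : G → ℂ)) hab
        have h1 := congrFun (Ext.avg_mul_conj_self hχ₀ hresirr) g
        rw [Ext.avg_apply, Pi.one_apply] at h1
        have key : ∀ l : {l : Cfsg.IrrCharacter (G ⧸ N) // (l : G ⧸ N → ℂ) 1 = 1},
            Ext.avg N (fun y => ((l.1 : G ⧸ N → ℂ) (QuotientGroup.mk' N y) * χ₀ y) * conj (χ₀ y)) g
              = (l.1 : G ⧸ N → ℂ) (QuotientGroup.mk' N g) := fun l => by
          rw [Ext.avg_apply]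
          simp only [map_mul, QuotientGroup.mk'_apply, (QuotientGroup.eq_one_iff _).mpr
            (SetLike.coe_mem _), one_mul, mul_assoc, ← Finset.mul_sum]
          rw [mul_left_comm, h1, mul_one]
        rw [← key a, ← key b]
        exact congrFun (congrArg (Ext.avg N) (funext fun y => by
          rw [show (a.1 : G ⧸ N → ℂ) (QuotientGroup.mk' N y) * χ₀ y = _ from congrFun hmul y])) g
      · obtain ⟨β, hβ, hinv, hprod, -⟩ := Ext.exists_gallagher hχ₀ hresirr χ.1.2 (by
          rw [show (fun x : N => (χ.1 : G → ℂ) x) = θ from funext χ.2, hresfun,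
            CharCore.classInner_irr_self (⟨θ, hθ⟩ : Cfsg.IrrCharacter N)]
          exact one_ne_zero)
        obtain ⟨γ, hγc, hγi, hγ⟩ := CharCore.IsCharacter.exists_quotient
          (CharCore.IsIrrCharacter.isCharacter hβ) N fun x hx => by simpa using hinv ⟨x, hx⟩ 1
        refine ⟨⟨⟨γ, hγi hβ⟩, ?_⟩, Subtype.ext (Subtype.ext (funext fun g => ?_))⟩
        · show γ 1 = 1
          have h1 := congrFun hprod 1
          rw [← map_one (QuotientGroup.mk' N), ← hγ]
          rw [Pi.mul_apply, show (χ.1 : G → ℂ) 1 = χ₀ 1 by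
            rw [← OneMemClass.coe_one N, χ.2, hres₀]] at h1
          exact mul_right_cancel₀ (CharCore.irr_apply_one_ne_zero ⟨χ₀, hχ₀⟩)
            (by rw [one_mul]; exact h1.symm)
        · show γ (QuotientGroup.mk' N g) * χ₀ g = (χ.1 : G → ℂ) g
          rw [← hγ, hprod, Pi.mul_apply]
    rw [Nat.card_congr he, CharCore.card_linearCharacters]
    intro h2
    exact Nat.not_even_iff_odd.mpr hidx (even_iff_two_dvd.mpr (h2.trans (by
      rw [Subgroup.index_eq_card N]
      exact Subgroup.index_dvd_card _)))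
  obtain ⟨χ, hχ⟩ := Equiv.Perm.exists_fixed_point_of_prime (p := 2) (n := e) hcard hπ
  exact ⟨χ.1, χ.1.2, χ.2, fun g => congrFun (congrArg (fun c : E => (c.1 : G → ℂ)) hχ) g⟩

end

/-- An invariant fixed character has a fixed extension over a quotient of `p`-power order. -/
theorem exists_fix_ext_pgroup {σ : ℂ →+* ℂ} {n k e p : ℕ} [hp : Fact p.Prime] :
    ∀ (j : ℕ) {G : Type u} [Group G] [Fintype G] (N : Subgroup G) [N.Normal] [Fintype N],
      Hyp G σ n k e → N.index = p ^ j → Odd N.index → ∀ θ : N → ℂ, Cfsg.IsIrrCharacter N θ →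
      Fix σ θ → Ext.Inv N θ →
      ∃ χ : G → ℂ, Cfsg.IsIrrCharacter G χ ∧ (∀ x : N, χ x = θ x) ∧ Fix σ χ := by
  intro j
  induction j with
  | zero =>
    intro G _ _ N _ _ h hidx _ θ hθ hf _
    rw [pow_zero, Subgroup.index_eq_one] at hidx
    subst hidx
    exact ⟨fun g => θ ⟨g, Subgroup.mem_top g⟩,
      CharCore.isIrrCharacter_comp_surjective hθ (Subgroup.topEquiv (G := G)).symm.toMonoidHom
        (Subgroup.topEquiv (G := G)).symm.surjective, fun x => rfl, fun g => hf _⟩
  | succ j ih =>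
    intro G _ _ N _ _ h hidx hodd θ hθ hf hinv
    classical
    -- a normal subgroup of index `p` over `N`
    have hc : Nat.card (G ⧸ N) = p ^ (j + 1) := by rw [← Subgroup.index_eq_card, hidx]
    obtain ⟨R, hR⟩ := Sylow.exists_subgroup_card_pow_prime p (G := G ⧸ N) (n := j)
      (hc ▸ pow_dvd_pow p (Nat.le_succ j))
    have hRi : R.index = p := by
      have h1 := R.index_mul_card
      rw [hR, hc, pow_succ'] at h1
      exact Nat.eq_of_mul_eq_mul_right (pow_pos hp.out.pos j) h1
    haveI : R.Normal := Subgroup.normal_of_index_eq_minFac_card (by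
      rw [hRi, hc, Nat.pow_minFac (Nat.succ_ne_zero j), hp.out.minFac_eq])
    set L := R.comap (QuotientGroup.mk' N) with hL
    haveI : L.Normal := (inferInstance : R.Normal).comap _
    have hNL : N ≤ L := fun x hx => by
      rw [hL, Subgroup.mem_comap, QuotientGroup.mk'_apply, (QuotientGroup.eq_one_iff x).mpr hx]
      exact one_mem _
    have hLi : L.index = p := by
      rw [hL, Subgroup.index_comap_of_surjective _ (QuotientGroup.mk'_surjective N), hRi]
    set N' := N.subgroupOf L with hN'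
    let eq := Subgroup.subgroupOfEquivOfLe hNL
    have hNi : N'.index = p ^ j := by
      have h1 := Subgroup.relIndex_mul_index hNL
      rw [Subgroup.relIndex, hLi, hidx, pow_succ] at h1
      exact Nat.eq_of_mul_eq_mul_right hp.out.pos h1
    have hNodd : Odd N'.index := by
      refine Odd.of_dvd_nat hodd ?_
      rw [hNi, hidx]
      exact pow_dvd_pow p (Nat.le_succ j)
    haveI : N'.Normal := Subgroup.normal_subgroupOf
    let θ' : N' → ℂ := fun x => θ (eq x)
    have hθ' : Cfsg.IsIrrCharacter N' θ' :=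
      CharCore.isIrrCharacter_comp_surjective hθ eq.toMonoidHom eq.surjective
    obtain ⟨η, hη, hηres, hηf⟩ := ih N' (h.subgroup L) hNi hNodd θ' hθ' (fun x => hf _)
      (fun g x => hinv (g : G) (eq x))
    have hηinv : Ext.Inv L η := by
      intro g
      have hconj : Cfsg.IsIrrCharacter L (fun l : L => η (MulAut.conjNormal g l)) :=
        CharCore.isIrrCharacter_comp_surjective hη (MulAut.conjNormal g : MulAut L).toMonoidHom
          (MulAut.conjNormal g : MulAut L).surjective
      have hsame : ∀ x : N', η (MulAut.conjNormal g (x : L)) = η (x : L) := by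
        intro x
        have hm : g * ((x : L) : G) * g⁻¹ ∈ N :=
          (inferInstance : N.Normal).conj_mem _ (Subgroup.mem_subgroupOf.mp x.2) g
        have h1 := hηres ⟨MulAut.conjNormal g (x : L), Subgroup.mem_subgroupOf.mpr (by
          rw [MulAut.conjNormal_apply]; exact hm)⟩
        show η (MulAut.conjNormal g (x : L)) = η (x : L)
        rw [h1, hηres x]
        refine Eq.trans ?_ (hinv g (eq x))
        exact congrArg θ (Subtype.ext (MulAut.conjNormal_apply g (x : L)))
      have hres' : (fun x : N' => η (x : L)) = θ' := funext hηres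
      have heq := (h.subgroup L).eq_of_over N' hNodd hη (by rw [hres']; exact hθ') hconj (by
        rw [show (fun x : N' => η (MulAut.conjNormal g (x : L))) = θ' from
          funext fun x => (hsame x).trans (hηres x), hres',
          CharCore.classInner_irr_self (⟨θ', hθ'⟩ : Cfsg.IrrCharacter N')]
        exact one_ne_zero) hηf (fun l => hηf _)
      intro l
      exact (congrArg η (Subtype.ext (MulAut.conjNormal_apply g l).symm)).trans (congrFun heq l)
    haveI : Fact p.Prime := hp
    have hcyc : IsCyclic (G ⧸ L) :=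
      isCyclic_of_prime_card (p := p) (by rw [← Subgroup.index_eq_card, hLi])
    obtain ⟨χ, hχ, hχres⟩ := CharB.exists_extension_of_cyclic L hcyc hη hηinv
    exact h.exists_fix_ext N hodd hθ hf ⟨χ, hχ, fun x => by
      rw [show χ x = χ ((⟨(x : G), hNL x.2⟩ : L) : G) from rfl, hχres]
      exact hηres ⟨⟨(x : G), hNL x.2⟩, Subgroup.mem_subgroupOf.mpr x.2⟩⟩

/-- An invariant fixed character has a fixed extension. -/
theorem Hyp.exists_fix_ext_of_inv {G : Type u} [Group G] [Fintype G] {σ : ℂ →+* ℂ} {n k e : ℕ}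
    (h : Hyp G σ n k e) (N : Subgroup G) [N.Normal] [Fintype N] (hodd : Odd N.index) {θ : N → ℂ}
    (hθ : Cfsg.IsIrrCharacter N θ) (hf : Fix σ θ) (hinv : Ext.Inv N θ) :
    ∃ χ : G → ℂ, Cfsg.IsIrrCharacter G χ ∧ (∀ x : N, χ x = θ x) ∧ Fix σ χ := by
  classical
  refine h.exists_fix_ext N hodd hθ hf (CharCore.exists_extension_of_sylow N hθ hinv fun p hp => ?_)
  haveI : Fact p.Prime := ⟨hp⟩
  obtain ⟨S⟩ := (inferInstance : Nonempty (Sylow p (G ⧸ N)))
  set P := (S : Subgroup (G ⧸ N)).comap (QuotientGroup.mk' N) with hP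
  have hNP : N ≤ P := fun x hx => by
    rw [hP, Subgroup.mem_comap, QuotientGroup.mk'_apply, (QuotientGroup.eq_one_iff x).mpr hx]
    exact one_mem _
  have hPi : P.index = (S : Subgroup (G ⧸ N)).index :=
    Subgroup.index_comap_of_surjective _ (QuotientGroup.mk'_surjective N)
  set N' := N.subgroupOf P with hN'
  let eq := Subgroup.subgroupOfEquivOfLe hNP
  obtain ⟨j, hj⟩ := IsPGroup.iff_card.mp S.2
  have hrel : N'.index * P.index = N.index := Subgroup.relIndex_mul_index hNP
  have hNi : N'.index = p ^ j := by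
    have h1 := (S : Subgroup (G ⧸ N)).index_mul_card
    rw [hj, ← Subgroup.index_eq_card, ← hPi, ← hrel, mul_comm N'.index] at h1
    exact (Nat.eq_of_mul_eq_mul_left (Nat.pos_of_ne_zero Subgroup.index_ne_zero_of_finite) h1).symm
  have hNodd : Odd N'.index := Odd.of_dvd_nat hodd (Dvd.intro _ hrel)
  haveI : N'.Normal := Subgroup.normal_subgroupOf
  have hθ' : Cfsg.IsIrrCharacter N' (fun x => θ (eq x)) :=
    CharCore.isIrrCharacter_comp_surjective hθ eq.toMonoidHom eq.surjective
  obtain ⟨η, hη, hres, -⟩ := exists_fix_ext_pgroup j N' (h.subgroup P) hNi hNodd _ hθ'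
    (fun x => hf _) (fun g x => hinv (g : G) (eq x))
  exact ⟨P, hNP, η, ((Nat.Prime.coprime_iff_not_dvd hp).mpr (hPi ▸ S.not_dvd_index)).symm,
    CharCore.IsIrrCharacter.isCharacter hη,
    fun x => hres ⟨⟨(x : G), hNP x.2⟩, Subgroup.mem_subgroupOf.mpr x.2⟩⟩

end Cfsg.Agent.CharDeep.Fixed
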